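import Cfsg.Agent.H361.Alt.Mod
import Cfsg.Agent.H546.Sp.Norm

/-!
# Frobenius subgroups from isolated primes of multiplicity one, and elements of order `t e` (helper361, TEAM SPEC-ALT)

* `sylow_frob` : `|S| = a m`, `a ∤ m`, `a` isolated in `S`: a Frobenius subgroup `Z_a : Z_e` with `m ≡ e (mod a)`;
* `nrm_mod`, `frob_order` : `K` nilpotent, `t ∣ |K|`: an element of order `t e` in `G`.
-/

set_option autoImplicit false

namespace Cfsg.Agent.H361.Alt

open Subgroup Cfsg.Agent.H357.Sp Cfsg.Agent.H421.Act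

universe u

/-- **The Frobenius subgroup of an isolated prime.** -/
theorem sylow_frob {S : Type*} [Group S] [Finite S] {a m : ℕ} (ha : a.Prime) (hm : Nat.card S = a * m)
    (ham : ¬ a ∣ m) (hiso : ∀ r : ℕ, r.Prime → r ≠ a → ∀ g : S, orderOf g ≠ a * r) :
    ∃ (e : ℕ) (x h : S), e ∣ a - 1 ∧ m ≡ e [MOD a] ∧ orderOf x = a ∧ orderOf h = e ∧
      (∀ y ∈ zpowers x, h * y * h⁻¹ ∈ zpowers x) ∧
      ∀ i : ℕ, ¬ e ∣ i → ∀ y ∈ zpowers x, h ^ i * y * (h ^ i)⁻¹ = y → y = 1 := by
  classical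
  have hfa : Fact a.Prime := ⟨ha⟩
  obtain ⟨P⟩ : Nonempty (Sylow a S) := inferInstance
  have hm0 : m ≠ 0 := fun h => ham (h ▸ dvd_zero a)
  have hcP : Nat.card P = a := by
    rw [Sylow.card_eq_multiplicity, hm, Nat.factorization_mul ha.ne_zero hm0, Finsupp.add_apply,
      ha.factorization_self, Nat.factorization_eq_zero_of_not_dvd ham, add_zero, pow_one]
  have hcyc : IsCyclic P := isCyclic_of_prime_card hcP
  have hPcomm : ∀ x ∈ P, ∀ y ∈ P, x * y = y * x := fun x hx y hy =>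
    congrArg Subtype.val (isMulCommutative_iff.1 hcyc.isMulCommutative (⟨x, hx⟩ : P) ⟨y, hy⟩)
  obtain ⟨q, hq⟩ : ∃ q : P, orderOf q = a := exists_prime_orderOf_dvd_card' (G := P) a (by rw [hcP])
  have hqo : orderOf (q : S) = a := by rw [Subgroup.orderOf_coe, hq]
  have hPz : (P : Subgroup S) = zpowers (q : S) := by
    symm
    apply Subgroup.eq_of_le_of_card_ge (zpowers_le.2 q.2)
    rw [Nat.card_zpowers, hqo]
    exact hcP.le
  let C : Subgroup S := centralizer (P : Set S)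
  have hPC : (P : Subgroup S) ≤ C := fun x hx => mem_centralizer_iff.2 fun y hy => hPcomm y hy x hx
  have hCp : IsPGroup a C := by
    rw [IsPGroup.iff_orderOf]
    intro c
    have h1 : ∀ r : ℕ, r.Prime → r ∣ orderOf c → r = a := by
      intro r hr hrc
      by_contra hne
      have h2 : Commute (q : S) (c : S) := (mem_centralizer_iff.1 c.2 _ q.2)
      obtain ⟨y, hy⟩ := exists_mul_order h2 ha hr (fun h => hne h.symm) (by rw [hqo])
        (by rw [Subgroup.orderOf_coe]; exact hrc)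
      exact hiso r hr hne y hy
    exact ⟨_, Nat.eq_prime_pow_of_unique_prime_dvd (orderOf_pos c).ne' fun {d} hd hd' => h1 d hd hd'⟩
  have hcC : Nat.card C = a := by
    obtain ⟨k, hk⟩ := IsPGroup.iff_card.1 hCp
    have h1 : a ∣ Nat.card C := by
      rw [← hcP]
      exact Subgroup.card_dvd_of_le hPC
    have h2 : Nat.card C ∣ a * m := hm ▸ Subgroup.card_subgroup_dvd_card C
    have h3 : ¬ a ^ 2 ∣ a * m := by
      rw [pow_two]
      intro h
      exact ham (Nat.dvd_of_mul_dvd_mul_left ha.pos h)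
    have hk1 : k ≤ 1 := by
      by_contra h
      apply h3
      refine (pow_dvd_pow a (by omega : 2 ≤ k)).trans ?_
      rw [← hk]
      exact h2
    have hk0 : k ≠ 0 := by
      rintro rfl
      rw [hk, pow_zero] at h1
      exact ha.one_lt.ne' (Nat.dvd_one.1 h1)
    have : k = 1 := by omega
    rw [hk, this, pow_one]
  have hCP : C = (P : Subgroup S) := by
    symm
    apply Subgroup.eq_of_le_of_card_ge hPC
    rw [hcC]
    exact hcP.ge
  let N : Subgroup S := normalizer (P : Set S)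
  have hCN : C ≤ N := by
    rw [hCP]
    exact le_normalizer
  let Φ : N →* MulAut P := (P : Subgroup S).normalizerMonoidHom
  have hΦ : ∀ (n : N) (y : P), ((Φ n y : P) : S) = n * y * (n : S)⁻¹ := fun n y => rfl
  have hker : ∀ n : N, Φ n = 1 ↔ (n : S) ∈ C := by
    intro n
    constructor
    · intro h
      refine mem_centralizer_iff.2 fun y hy => ?_
      have h1 := hΦ n ⟨y, hy⟩
      rw [h] at h1
      exact (mul_inv_eq_iff_eq_mul.1 h1.symm).symm
    · intro h
      apply MulEquiv.ext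
      intro y
      apply Subtype.ext
      rw [hΦ, ← mem_centralizer_iff.1 h y y.2, mul_inv_cancel_right]
      rfl
  have hcyc2 : IsCyclic (MulAut P) := by
    have e1 := IsCyclic.mulAutMulEquiv P
    rw [hcP] at e1
    have h1 : IsCyclic (ZMod a)ˣ := ZMod.isCyclic_units_prime ha
    exact isCyclic_of_injective e1.toMonoidHom e1.injective
  have hrc : IsCyclic Φ.range := inferInstance
  obtain ⟨⟨_, h0, rfl⟩, hgen⟩ := hrc.exists_generator
  set e := orderOf (Φ h0) with he
  have hcard : Nat.card Φ.range = e := by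
    have h1 : orderOf (⟨Φ h0, ⟨h0, rfl⟩⟩ : Φ.range) = Nat.card Φ.range := orderOf_eq_card_of_forall_mem_zpowers hgen
    rw [← h1, ← Subgroup.orderOf_coe]
  have hea : e ∣ a - 1 := by
    rw [← hcard]
    have h1 := Subgroup.card_subgroup_dvd_card Φ.range
    rwa [hcyc.card_mulAut, hcP, Nat.totient_prime ha] at h1
  have hcN : Nat.card N = a * e := by
    have h1 := Subgroup.card_eq_card_quotient_mul_card_subgroup Φ.ker
    have h2 : Nat.card (N ⧸ Φ.ker) = e := by
      rw [Nat.card_congr (QuotientGroup.quotientKerEquivRange Φ).toEquiv, hcard]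
    have h3 : Nat.card Φ.ker = a := by
      have h4 : Φ.ker.map N.subtype = C := by
        apply le_antisymm
        · rintro _ ⟨n, hn, rfl⟩
          exact (hker n).1 (MonoidHom.mem_ker.1 hn)
        · intro c hc
          exact ⟨⟨c, hCN hc⟩, MonoidHom.mem_ker.2 ((hker _).2 hc), rfl⟩
      rw [← Subgroup.card_map_of_injective N.subtype_injective, h4, hcC]
    rw [h1, h2, h3, mul_comm]
  have hmod : m ≡ e [MOD a] := by
    have h2 : Nat.card N * Nat.card (Sylow a S) = a * m := by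
      rw [Sylow.card_eq_index_normalizer P, Subgroup.card_mul_index, hm]
    rw [hcN, mul_assoc] at h2
    have h3 : e * Nat.card (Sylow a S) = m := Nat.eq_of_mul_eq_mul_left ha.pos h2
    have h4 := (Nat.ModEq.refl (n := a) e).mul (card_sylow_modEq_one a S)
    rw [h3, mul_one] at h4
    exact h4
  have he0 : 0 < e := orderOf_pos _
  have hcop : Nat.Coprime a e := by
    rw [Nat.Prime.coprime_iff_not_dvd ha]
    intro h
    have h1 := Nat.le_of_dvd he0 h
    have h2 := Nat.le_of_dvd (Nat.sub_pos_of_lt ha.one_lt) hea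
    have := ha.pos
    omega
  -- the element `h0 ^ a`
  set h : S := (h0 : S) ^ a with hh
  have hhC : ∀ i : ℕ, h ^ i ∈ C ↔ e ∣ i := by
    intro i
    have h1 : h ^ i = ((h0 ^ (a * i) : N) : S) := by
      rw [hh, ← pow_mul]; rfl
    rw [h1, ← hker, map_pow, ← orderOf_dvd_iff_pow_eq_one, ← he]
    exact ⟨fun hd => hcop.symm.dvd_of_dvd_mul_left hd, fun hd => hd.mul_left a⟩
  have hho : orderOf h = e := by
    apply Nat.dvd_antisymm
    · apply orderOf_dvd_of_pow_eq_one
      have h1 : (h0 : S) ^ e ∈ C := by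
        have h2 : (h0 : S) ^ e = ((h0 ^ e : N) : S) := rfl
        rw [h2, ← hker, map_pow, he, pow_orderOf_eq_one]
      rw [hCP] at h1
      have h3 : (⟨(h0 : S) ^ e, h1⟩ : P) ^ a = 1 := by
        have h5 : (⟨(h0 : S) ^ e, h1⟩ : P) ^ Nat.card P = 1 := pow_card_eq_one'
        rwa [hcP] at h5
      have h4 := congrArg Subtype.val h3
      rw [hh, ← pow_mul, mul_comm, pow_mul]
      exact h4
    · rw [← hhC, pow_orderOf_eq_one]
      exact C.one_mem
  refine ⟨e, q, h, hea, hmod, hqo, hho, ?_, ?_⟩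
  · rw [← hPz]
    intro y hy
    have h1 : h ∈ N := N.pow_mem h0.2 a
    exact (mem_normalizer_iff.1 h1 y).1 hy
  · intro i hi y hy hfix
    by_contra hy1
    apply hi
    rw [← hhC]
    -- `y` generates `P`
    have hyP : zpowers y = zpowers (q : S) := by
      have h1 : zpowers y ≤ zpowers (q : S) := zpowers_le.2 hy
      apply Subgroup.eq_of_le_of_card_ge h1
      rw [Nat.card_zpowers, Nat.card_zpowers, hqo]
      have h2 : orderOf y ∣ a := by
        rw [← hqo, ← Nat.card_zpowers (q : S), ← Nat.card_zpowers y]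
        exact Subgroup.card_dvd_of_le h1
      rcases (Nat.dvd_prime ha).1 h2 with h3 | h3
      · exact absurd (orderOf_eq_one_iff.1 h3) hy1
      · exact h3.ge
    refine mem_centralizer_iff.2 fun z hz => ?_
    have hz' : z ∈ zpowers y := by
      rw [hyP, ← hPz]
      exact hz
    obtain ⟨k, rfl⟩ := mem_zpowers_iff.1 hz'
    have h5 : Commute (h ^ i) y := mul_inv_eq_iff_eq_mul.1 hfix
    exact (h5.zpow_right k).eq.symm

section

variable {G : Type u} [Group G] [Finite G] {K : Subgroup G} [K.Normal]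

/-- **Block lemma in a nilpotent kernel**: `E` an `a`-group of `G ⧸ K`, `h` acts on it Frobenius-like, `E` moves the
module: an element of order `t o(h)`. -/
theorem block_order (hK : Group.IsNilpotent ↥K) {S : Subgroup (G ⧸ K)} (hS : IsSimpleGroup ↥S) {t a r : ℕ}
    (ht : t.Prime) (htK : t ∣ Nat.card ↥K) (ha : a.Prime) (hat : t ≠ a) (hr : r.Prime) (hrt : r ≠ t)
    (hrS : r ∣ Nat.card ↥S) (hno : ∀ g : G, orderOf g ≠ r * t) (E : Subgroup ↥S) (hE : IsPGroup a ↥E) (hE1 : E ≠ ⊥)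
    (h : ↥S) (hn : ∀ y ∈ E, h * y * h⁻¹ ∈ E)
    (hf : ∀ i : ℕ, ¬ orderOf h ∣ i → ∀ y ∈ E, h ^ i * y * (h ^ i)⁻¹ = y → y = 1) :
    ∃ g : G, orderOf g = t * orderOf h := by
  classical
  have hfr : Fact r.Prime := ⟨hr⟩
  obtain ⟨V, _, _, _, ρ, hexp, hmod⟩ := exists_mod hK ht htK
  let ρ' : S →* AddMonoid.End V := ρ.comp S.subtype
  -- `S` acts faithfully
  have hker : ρ'.ker = ⊥ := by
    rcases hS.eq_bot_or_eq_top_of_normal ρ'.ker inferInstance with h1 | h1
    · exact h1
    · exfalso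
      obtain ⟨s, hs⟩ := exists_prime_orderOf_dvd_card' (G := S) r hrS
      obtain ⟨v, hv⟩ := exists_ne (0 : V)
      have hs1 : ρ (s : G ⧸ K) = 1 := by
        have : s ∈ ρ'.ker := by rw [h1]; exact mem_top s
        exact MonoidHom.mem_ker.1 this
      have hnrm : nrm ρ (s : G ⧸ K) v ≠ 0 := by
        have h2 : nrm ρ (s : G ⧸ K) v = r • v := by
          rw [nrm, Subgroup.orderOf_coe, hs]
          rw [Finset.sum_congr rfl fun i _ => show ρ ((s : G ⧸ K) ^ i) v = v by rw [map_pow, hs1, one_pow]; rfl]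
          rw [Finset.sum_const, Finset.card_range]
        rw [h2]
        exact Cfsg.Agent.H546.Sp.smul_ne_zero' ht hexp (fun hd => hrt ((Nat.prime_dvd_prime_iff_eq ht hr).1 hd).symm) hv
      obtain ⟨g, hg⟩ := hmod _ _ hnrm
      rw [Subgroup.orderOf_coe, hs] at hg
      exact hno g (by rw [hg, mul_comm])
  obtain ⟨⟨y, hy⟩, hy0⟩ := (Subgroup.ne_bot_iff_exists_ne_one).1 hE1
  have hy1 : y ≠ 1 := fun h => hy0 (Subtype.ext h)
  have hmv : ∃ x ∈ E, ∃ v, ρ' x v ≠ v := by
    refine ⟨y, hy, ?_⟩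
    by_contra hcon
    push Not at hcon
    have h1 : (y : S) ∈ ρ'.ker := MonoidHom.mem_ker.2 (AddMonoidHom.ext hcon)
    rw [hker, Subgroup.mem_bot] at h1
    exact hy1 h1
  obtain ⟨v, hv⟩ := Cfsg.Agent.H546.Sp.nrm_ne_zero ht ha hat hexp ρ' E h hE rfl hn hf hmv
  have hv' : nrm ρ (h : G ⧸ K) v ≠ 0 := by
    have h2 : nrm ρ (h : G ⧸ K) v = nrm ρ' h v := by
      rw [nrm, nrm, Subgroup.orderOf_coe]
      rfl
    rw [h2]
    exact hv
  obtain ⟨g, hg⟩ := hmod _ _ hv'
  exact ⟨g, by rw [hg, Subgroup.orderOf_coe]⟩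

/-- **Elements of order `t e`**, `e` from the Sylow congruence of the isolated prime `a`. -/
theorem frob_order (hK : Group.IsNilpotent ↥K) {S : Subgroup (G ⧸ K)} (hS : IsSimpleGroup ↥S) {t a m r : ℕ}
    (ht : t.Prime) (htK : t ∣ Nat.card ↥K) (ha : a.Prime) (hat : t ≠ a) (hm : Nat.card ↥S = a * m) (ham : ¬ a ∣ m)
    (hiso : ∀ r : ℕ, r.Prime → r ≠ a → ∀ g : ↥S, orderOf g ≠ a * r) (hr : r.Prime) (hrt : r ≠ t)
    (hrS : r ∣ Nat.card ↥S) (hno : ∀ g : G, orderOf g ≠ r * t) :
    ∃ e : ℕ, e ∣ a - 1 ∧ m ≡ e [MOD a] ∧ ∃ g : G, orderOf g = t * e := by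
  obtain ⟨e, x, h, he, hme, hx, hh, hn, hf⟩ := sylow_frob ha hm ham hiso
  refine ⟨e, he, hme, ?_⟩
  have hE : IsPGroup a (zpowers x) := IsPGroup.of_card (n := 1) (by rw [Nat.card_zpowers, hx, pow_one])
  have hE1 : zpowers x ≠ ⊥ := by
    rw [Ne, zpowers_eq_bot]
    rintro rfl
    rw [orderOf_one] at hx
    exact ha.one_lt.ne hx
  obtain ⟨g, hg⟩ := block_order hK hS ht htK ha hat hr hrt hrS hno (zpowers x) hE hE1 h hn (by rw [hh]; exact hf)
  exact ⟨g, by rw [hg, hh]⟩

end

end Cfsg.Agent.H361.Alt
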