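import Cfsg.Agent.H381.Cover
import Cfsg.Agent.H813.NonCyc
import Cfsg.Agent.S0033
import Cfsg.Agent.OddOrderLocal.FittingHall
import Cfsg.Agent.H421.Six

/-!
# Involutions inverting an element of prime order `a`, and elements of order `2 s t` (helper361, TEAM SPEC-ALT)

`K` solvable normal in `G`, `s, t ∣ |K|`, an element of order `a` of `S ≤ G ⧸ K` inverted by an involution, `a` not adjacent
to `2, s, t`: then `G` has elements of order `2 s t`.
-/

set_option autoImplicit false

namespace Cfsg.Agent.H361.Alt.Inv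

open Subgroup Cfsg.Agent.H381.Cover

universe u

/-- an involution inverting a fixed-point-free element has fixed points -/
theorem exists_fix {G : Type*} [Group G] [Finite G] {V : Subgroup G} (hV1 : V ≠ ⊥) {x t : G}
    (ht : t * t = 1) (hx : Odd (orderOf x)) (htx : t * x * t⁻¹ = x⁻¹) (hxV : ∀ v ∈ V, x * v * x⁻¹ ∈ V)
    (htV : ∀ v ∈ V, t * v * t⁻¹ ∈ V) (hf : ∀ v ∈ V, x * v = v * x → v = 1) : ∃ v ∈ V, v ≠ 1 ∧ t * v = v * t := by
  by_contra hcon
  push Not at hcon
  apply hV1
  rw [eq_bot_iff]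
  let φ : V →* V :=
    { toFun := fun v => ⟨t * v * t⁻¹, htV v v.2⟩
      map_one' := Subtype.ext (by simp)
      map_mul' := fun v w => Subtype.ext (by
        change t * (v * w : G) * t⁻¹ = t * v * t⁻¹ * (t * w * t⁻¹)
        group) }
  have hφ : MonoidHom.FixedPointFree φ := by
    intro v hv
    by_contra h1
    have h2 : t * (v : G) * t⁻¹ = v := congrArg Subtype.val hv
    refine hcon v v.2 (fun h => h1 (Subtype.ext h)) ?_
    exact mul_inv_eq_iff_eq_mul.1 h2
  have hinv : Function.Involutive φ := by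
    intro v
    apply Subtype.ext
    change t * (t * (v : G) * t⁻¹) * t⁻¹ = v
    have h1 : t⁻¹ = t := inv_eq_of_mul_eq_one_left ht
    rw [h1]
    calc t * (t * (v : G) * t) * t = (t * t) * v * (t * t) := by group
      _ = v := by rw [ht]; group
  have h1 := hφ.coe_eq_inv_of_involutive hinv
  have key : ∀ v ∈ V, t * v * t⁻¹ = v⁻¹ := by
    intro v hv
    have := congrArg Subtype.val (congrFun h1 ⟨v, hv⟩)
    exact this
  intro v hv
  rw [mem_bot]
  apply hf v hv
  -- `x²` centralizes `v`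
  have h2 := key _ (hxV v hv)
  have h3 : t * (x * v * x⁻¹) * t⁻¹ = (t * x * t⁻¹) * (t * v * t⁻¹) * (t * x * t⁻¹)⁻¹ := by group
  rw [h3, htx, key v hv] at h2
  -- x⁻¹ v⁻¹ x = (x v x⁻¹)⁻¹ = x v⁻¹ x⁻¹
  have h4 : x * x * v⁻¹ = v⁻¹ * (x * x) := by
    have h5 : x⁻¹ * v⁻¹ * x⁻¹⁻¹ = x * v⁻¹ * x⁻¹ := by
      rw [h2]; group
    rw [inv_inv] at h5
    calc x * x * v⁻¹ = x * (x * v⁻¹ * x⁻¹) * x := by group
      _ = x * (x⁻¹ * v⁻¹ * x) * x := by rw [h5]
      _ = v⁻¹ * (x * x) := by group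
  have h6 : Commute (x ^ 2) v := by
    have : Commute (x * x) v⁻¹ := h4
    rw [pow_two]
    exact (Commute.inv_right_iff.1 this)
  obtain ⟨k, hk⟩ := hx
  have h7 : x = (x ^ 2) ^ (k + 1) := by
    rw [← pow_mul, show 2 * (k + 1) = (2 * k + 1) + 1 by ring, pow_succ, ← hk, pow_orderOf_eq_one, one_mul]
  rw [h7]
  exact h6.pow_left _

/-- conjugation by an element of the normalizer of `H` preserves characteristic subgroups of `H` -/
theorem conj_mem_map {G : Type*} [Group G] {H : Subgroup G} (P : Subgroup H) [hP : P.Characteristic] {n : G}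
    (hn : n ∈ normalizer (H : Set G)) {v : G} (hv : v ∈ P.map H.subtype) : n * v * n⁻¹ ∈ P.map H.subtype := by
  obtain ⟨w, hw, rfl⟩ := hv
  let φ : MulAut H := H.normalizerMonoidHom ⟨n, hn⟩
  have h1 : P.map φ.toMonoidHom = P := Subgroup.characteristic_iff_map_eq.1 hP φ
  refine ⟨φ w, ?_, rfl⟩
  rw [← h1]
  exact ⟨w, hw, rfl⟩

/-- an involution inverting an element acting fixed-point-freely on a nilpotent `H` centralizes an element of order `s`
of `H` -/
theorem exists_fix_prime {G : Type*} [Group G] [Finite G] {H : Subgroup G} (hH : Group.IsNilpotent H) {x t : G}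
    (ht : t * t = 1) (hx : Odd (orderOf x)) (htx : t * x * t⁻¹ = x⁻¹) (hxH : x ∈ normalizer (H : Set G))
    (htH : t ∈ normalizer (H : Set G)) (hf : ∀ v ∈ H, x * v = v * x → v = 1) {s : ℕ} (hs : s.Prime)
    (hsH : s ∣ Nat.card H) : ∃ v ∈ H, orderOf v = s ∧ t * v = v * t := by
  have hfs : Fact s.Prime := ⟨hs⟩
  obtain ⟨P⟩ : Nonempty (Sylow s H) := inferInstance
  have hPn : (P : Subgroup H).Normal := by
    have := hH
    exact (Group.isNilpotent_of_finite_tfae (G := H)).out 0 3 rfl rfl |>.mp this s ⟨hs⟩ P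
  have hPc : (P : Subgroup H).Characteristic := P.characteristic_of_normal hPn
  have h1 : ((P : Subgroup H).map H.subtype) ≠ ⊥ := by
    intro h
    have h2 := (Subgroup.map_eq_bot_iff_of_injective _ H.subtype_injective).1 h
    exact P.ne_bot_of_dvd_card hsH h2
  obtain ⟨v, hv, hv1, htv⟩ := exists_fix h1 ht hx htx (fun v hv => conj_mem_map _ hxH hv)
    (fun v hv => conj_mem_map _ htH hv) (fun v hv h => by
      obtain ⟨w, -, rfl⟩ := hv
      exact hf w w.2 h)
  have hvH : v ∈ H := by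
    obtain ⟨w, -, rfl⟩ := hv
    exact w.2
  obtain ⟨k, hk⟩ : ∃ k, orderOf v = s ^ k := by
    obtain ⟨w, hw, rfl⟩ := hv
    obtain ⟨k, hk⟩ := IsPGroup.iff_orderOf.1 P.isPGroup' ⟨w, hw⟩
    rw [Subgroup.orderOf_mk] at hk
    exact ⟨k, by rw [Subgroup.subtype_apply, Subgroup.orderOf_coe, hk]⟩
  have hk0 : k ≠ 0 := by
    rintro rfl
    rw [pow_zero, orderOf_eq_one_iff] at hk
    exact hv1 hk
  refine ⟨v ^ (s ^ (k - 1)), pow_mem hvH _, ?_, ?_⟩
  · rw [orderOf_pow_of_dvd (pow_ne_zero _ hs.ne_zero) (by rw [hk]; exact pow_dvd_pow s (Nat.sub_le k 1)), hk]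
    rw [Nat.div_eq_iff_eq_mul_left (pow_pos hs.pos _) (pow_dvd_pow s (Nat.sub_le k 1)), ← pow_succ']
    congr 1
    omega
  · exact ((show Commute t v from htv).pow_right _).eq

/-- Thompson: nilpotency -/
theorem nilpotent_of_fpf {G : Type*} [Group G] [Finite G] {H : Subgroup G} (hH : H ≠ ⊥) {x : G} {a : ℕ} (ha : a.Prime)
    (hx : orderOf x = a) (hxH : x ∈ normalizer (H : Set G)) (hf : ∀ v ∈ H, x * v = v * x → v = 1) :
    Group.IsNilpotent H := by
  let φ : MulAut H := H.normalizerMonoidHom ⟨x, hxH⟩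
  have hfix : ∀ h : H, φ h = h → h = 1 := by
    intro h hh
    have h1 : x * (h : G) * x⁻¹ = h := congrArg Subtype.val hh
    exact Subtype.ext (hf h h.2 (mul_inv_eq_iff_eq_mul.1 h1))
  have hφa : φ ^ a = 1 := by
    rw [← map_pow]
    have : (⟨x, hxH⟩ : normalizer (H : Set G)) ^ a = 1 := by
      apply Subtype.ext
      rw [SubmonoidClass.coe_pow]
      change x ^ a = 1
      rw [← hx, pow_orderOf_eq_one]
    rw [this, map_one]
  have hφ1 : φ ≠ 1 := by
    intro h
    apply hH
    rw [eq_bot_iff]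
    intro v hv
    have := hfix ⟨v, hv⟩ (by rw [h]; rfl)
    rw [mem_bot]
    exact congrArg Subtype.val this
  have := Fact.mk ha
  exact Cfsg.Agent.S0033.result φ (fun h hh => hfix h hh) a ha (orderOf_eq_prime hφa hφ1)

/-- an involution in the normalizer of a Sylow subgroup of prime order -/
theorem exists_two {S : Type*} [Group S] [Finite S] {a m : ℕ} (ha : a.Prime) (hm : Nat.card S = a * m) (ham : ¬ a ∣ m)
    (hpow : ∀ i, ¬ m ≡ 3 ^ i [MOD a]) (hd : ∀ r : ℕ, r.Prime → r ∣ a - 1 → r = 2 ∨ r = 3)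
    (hiso : ∀ r : ℕ, r.Prime → r ≠ a → r ≠ 3 → ∀ g : S, orderOf g ≠ a * r) :
    ∃ x z : S, orderOf x = a ∧ orderOf z = 2 ∧ z ∈ normalizer (zpowers x : Set S) := by
  classical
  have hfa : Fact a.Prime := ⟨ha⟩
  obtain ⟨P⟩ : Nonempty (Sylow a S) := inferInstance
  have hm0 : m ≠ 0 := fun h => ham (h ▸ dvd_zero a)
  have hcP : Nat.card P = a := by
    rw [Sylow.card_eq_multiplicity, hm, Nat.factorization_mul ha.ne_zero hm0, Finsupp.add_apply,
      ha.factorization_self, Nat.factorization_eq_zero_of_not_dvd ham, add_zero, pow_one]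
  have hcyc : IsCyclic P := isCyclic_of_prime_card hcP
  obtain ⟨q, hq⟩ : ∃ q : P, orderOf q = a := exists_prime_orderOf_dvd_card' (G := P) a (by rw [hcP])
  have hqo : orderOf (q : S) = a := by rw [Subgroup.orderOf_coe, hq]
  have hPz : (P : Subgroup S) = zpowers (q : S) := by
    symm
    apply Subgroup.eq_of_le_of_card_ge (zpowers_le.2 q.2)
    rw [Nat.card_zpowers, hqo]
    exact hcP.le
  let N : Subgroup S := normalizer (P : Set S)
  by_cases h2 : 2 ∣ Nat.card N
  · obtain ⟨z, hz⟩ := exists_prime_orderOf_dvd_card' (G := N) 2 h2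
    refine ⟨q, z, hqo, by rw [Subgroup.orderOf_coe, hz], ?_⟩
    have h3 : (z : S) ∈ normalizer ((P : Subgroup S) : Set S) := z.2
    rw [hPz] at h3
    exact h3
  · exfalso
    have hprimes : ∀ r : ℕ, r.Prime → r ∣ Nat.card N → r = a ∨ r = 3 := by
      intro r hr hrN
      by_contra hne
      push Not at hne
      have hfr : Fact r.Prime := ⟨hr⟩
      obtain ⟨y, hy⟩ := exists_prime_orderOf_dvd_card' (G := N) r hrN
      let φ : N →* MulAut P := (P : Subgroup S).normalizerMonoidHom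
      have hc : Nat.card (MulAut P) = a - 1 := by
        rw [hcyc.card_mulAut, hcP, Nat.totient_prime ha]
      have h3 : orderOf (φ y) ∣ r := hy ▸ orderOf_map_dvd φ y
      have h4 : orderOf (φ y) ∣ a - 1 := hc ▸ orderOf_dvd_natCard (φ y)
      have h5 : φ y = 1 := by
        rcases (Nat.dvd_prime hr).1 h3 with h6 | h6
        · exact orderOf_eq_one_iff.1 h6
        · exfalso
          rw [h6] at h4
          rcases hd r hr h4 with h7 | h7
          · rw [h7] at hrN
            exact h2 hrN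
          · exact hne.2 h7
      have h6 : Commute (q : S) (y : S) := by
        have h7 : ((φ y q : P) : S) = q := by rw [h5]; rfl
        have h8 : (y : S) * q * (y : S)⁻¹ = q := h7
        exact (mul_inv_eq_iff_eq_mul.1 h8).symm
      obtain ⟨w, hw⟩ := Cfsg.Agent.H421.Act.exists_mul_order h6 ha hr (fun h => hne.1 h.symm) (by rw [hqo])
        (by rw [Subgroup.orderOf_coe, hy])
      exact hiso r hr hne.1 hne.2 w hw
    have h3 : Nat.card N * Nat.card (Sylow a S) = a * m := by
      rw [Sylow.card_eq_index_normalizer P, Subgroup.card_mul_index, hm]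
    have h4 : a ∣ Nat.card N := by
      rw [← hcP]
      exact Subgroup.card_dvd_of_le (le_normalizer)
    obtain ⟨n', hn'⟩ := h4
    rw [hn', mul_assoc] at h3
    have h5 : n' * Nat.card (Sylow a S) = m := Nat.eq_of_mul_eq_mul_left ha.pos h3
    have hn0 : n' ≠ 0 := by
      rintro rfl
      rw [zero_mul] at h5
      exact hm0 h5.symm
    have h6 : n' = 3 ^ n'.primeFactorsList.length := by
      apply Nat.eq_prime_pow_of_unique_prime_dvd hn0
      intro r hr hrn
      rcases hprimes r hr (hn' ▸ hrn.trans (dvd_mul_left _ _)) with h7 | h7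
      · subst h7
        exact absurd (hrn.trans (h5 ▸ dvd_mul_right _ _)) ham
      · exact h7
    have h7 := (Nat.ModEq.refl (n := a) n').mul (card_sylow_modEq_one a S)
    rw [h5, mul_one] at h7
    exact hpow _ (h6 ▸ h7)

/-- **Elements of order `2 s t`.** -/
theorem exists_order {G : Type*} [Group G] [Finite G] {K : Subgroup G} [K.Normal] {S : Subgroup (G ⧸ K)} [S.Normal]
    (hK : Group.IsSolvable K) {a s t : ℕ} (ha : a.Prime) (hs : s.Prime) (ht : t.Prime) (hst : s ≠ t) (ha2 : a ≠ 2)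
    (hs2 : s ≠ 2) (ht2 : t ≠ 2) (has : a ≠ s) (hat : a ≠ t) (haK : ¬ a ∣ Nat.card K) (hsK : s ∣ Nat.card K)
    (htK : t ∣ Nat.card K) (n2 : ∀ g : G, orderOf g ≠ 2 * a) (ns : ∀ g : G, orderOf g ≠ s * a)
    (nt : ∀ g : G, orderOf g ≠ t * a) {x z : S} (hx : orderOf x = a) (hz : orderOf z = 2)
    (hzx : z ∈ normalizer (zpowers x : Set S)) : ∃ g : G, orderOf g = 2 * (s * t) := by
  classical
  have hfa : Fact a.Prime := ⟨ha⟩
  have hKer : (QuotientGroup.mk' K).ker = K := QuotientGroup.ker_mk' K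
  obtain ⟨R, hR⟩ := Cfsg.Agent.OddOrderLocal.HallPi.exists_isPiHallOf hK ({s, t} : Set ℕ)
  have hcov0 : Cov (QuotientGroup.mk' K) S.subtype ⊤ := by
    intro w _
    obtain ⟨g, hg⟩ := QuotientGroup.mk'_surjective K w
    exact ⟨g, mem_top _, hg⟩
  have hcov := hcov0.frattini (N := K) hK le_top (by rw [normalizer_eq_top]) (by rw [hKer]) hR
  obtain ⟨Y, hYM, g, hgM, hYp, hYmap, hgY, hfg, k, hgk⟩ := hcov.lift_pair (by rw [hKer]; exact hK) ha Nat.prime_two
    (A := zpowers x) (w := z) (IsPGroup.of_card (n := 1) (by rw [Nat.card_zpowers, hx, pow_one])) hzx (k := 1)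
    (by rw [hz, pow_one])
  -- the element `y`
  have hYK : ∀ v ∈ Y, v ∈ K → v = 1 := by
    intro v hv hvK
    obtain ⟨i, hi⟩ := IsPGroup.iff_orderOf.1 hYp ⟨v, hv⟩
    rw [Subgroup.orderOf_mk] at hi
    have h1 : orderOf v ∣ Nat.card K := by
      have := orderOf_dvd_natCard (⟨v, hvK⟩ : K)
      rwa [Subgroup.orderOf_mk] at this
    rcases Nat.eq_zero_or_pos i with h0 | h0
    · rw [h0, pow_zero] at hi
      exact orderOf_eq_one_iff.1 hi
    · exact absurd ((dvd_pow_self a h0.ne').trans (hi ▸ h1)) haK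
  have hYK' : ∀ v ∈ Y, QuotientGroup.mk' K v = 1 → v = 1 := fun v hv h =>
    hYK v hv ((QuotientGroup.eq_one_iff v).1 h)
  obtain ⟨y, hyY, hy⟩ : ∃ y ∈ Y, QuotientGroup.mk' K y = S.subtype x := by
    have h1 : S.subtype x ∈ Y.map (QuotientGroup.mk' K) := by
      rw [hYmap]
      exact ⟨x, mem_zpowers x, rfl⟩
    exact h1
  have hxo : orderOf (S.subtype x) = a := by
    rw [orderOf_injective _ S.subtype_injective, hx]
  have hya : orderOf y = a := by
    apply orderOf_eq_prime
    · apply hYK' _ (pow_mem hyY _)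
      rw [map_pow, hy, ← hxo, pow_orderOf_eq_one]
    · rintro rfl
      rw [map_one] at hy
      rw [← hy, orderOf_one] at hxo
      exact ha.one_lt.ne hxo
  -- `z` inverts `x`
  have hzx' : z * x * z⁻¹ = x⁻¹ := by
    have h1 : z * x * z⁻¹ ∈ zpowers x := (mem_normalizer_iff.1 hzx x).1 (mem_zpowers x)
    obtain ⟨j, hj⟩ := mem_zpowers_iff.1 h1
    have hzz : z * z = 1 := by
      rw [← pow_two, ← hz, pow_orderOf_eq_one]
    have h2 : x ^ (j * j) = x := by
      have h3 : z * (z * x * z⁻¹) * z⁻¹ = x := by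
        calc z * (z * x * z⁻¹) * z⁻¹ = (z * z) * x * (z * z)⁻¹ := by group
          _ = x := by rw [hzz]; group
      rw [← hj, ← conj_zpow, ← hj, ← zpow_mul] at h3
      exact h3
    have h3 : (a : ℤ) ∣ (j - 1) * (j + 1) := by
      have h4 : x ^ ((j - 1) * (j + 1)) = 1 := by
        rw [show (j - 1) * (j + 1) = j * j - 1 by ring, zpow_sub, h2, zpow_one, mul_inv_cancel]
      rw [← hx]
      exact orderOf_dvd_iff_zpow_eq_one.2 h4
    rcases (Nat.prime_iff_prime_int.1 ha).dvd_or_dvd h3 with h4 | h4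
    · exfalso
      rw [← hx, orderOf_dvd_iff_zpow_eq_one, zpow_sub, zpow_one, hj] at h4
      have h5 : Commute z x := by
        have h6 : z * x * z⁻¹ = x := by
          rw [mul_inv_eq_one] at h4
          exact h4
        exact mul_inv_eq_iff_eq_mul.1 h6
      obtain ⟨w, hw⟩ := Cfsg.Agent.H813.NonCyc.exists_of_commute (s := 2) (t := a)
        ((Nat.coprime_primes Nat.prime_two ha).2 ha2.symm) (a := z) (b := x) (by rw [hz]) (by rw [hx]) h5
      obtain ⟨w', hw'⟩ := Cfsg.Agent.H421.Six.lift_order (K := K) (S := S) ⟨w, hw⟩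
      exact n2 w' hw'
    · rw [← hx, orderOf_dvd_iff_zpow_eq_one, zpow_add, zpow_one, hj] at h4
      exact eq_inv_of_mul_eq_one_left h4
  have hgy : g * y * g⁻¹ = y⁻¹ := by
    have h1 : g * y * g⁻¹ ∈ Y := (mem_normalizer_iff.1 hgY y).1 hyY
    have h2 : g * y * g⁻¹ * y = 1 := by
      apply hYK' _ (mul_mem h1 hyY)
      rw [map_mul, map_mul, map_mul, map_inv, hfg, hy]
      have h3 := congrArg S.subtype hzx'
      rw [map_mul, map_mul, map_inv, map_inv] at h3
      rw [h3, inv_mul_cancel]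
    exact eq_inv_of_mul_eq_one_left h2
  have hgg : g * g = 1 := by
    by_contra hne
    have h1 : Commute (g * g) y := by
      have h2 : (g * g) * y * (g * g)⁻¹ = y := by
        calc (g * g) * y * (g * g)⁻¹ = g * (g * y * g⁻¹) * g⁻¹ := by group
          _ = g * y⁻¹ * g⁻¹ := by rw [hgy]
          _ = (g * y * g⁻¹)⁻¹ := by group
          _ = y := by rw [hgy, inv_inv]
      exact mul_inv_eq_iff_eq_mul.1 h2
    have h2 : 2 ∣ orderOf (g * g) := by
      have h3 : orderOf (g * g) ∣ 2 ^ k := by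
        rw [← hgk, ← pow_two]
        exact orderOf_pow_dvd 2
      obtain ⟨i, -, hi⟩ := (Nat.dvd_prime_pow Nat.prime_two).1 h3
      have hi0 : i ≠ 0 := by
        rintro rfl
        rw [pow_zero, orderOf_eq_one_iff] at hi
        exact hne hi
      rw [hi]
      exact dvd_pow_self 2 hi0
    obtain ⟨w, hw⟩ := Cfsg.Agent.H813.NonCyc.exists_of_commute (s := 2) (t := a)
      ((Nat.coprime_primes Nat.prime_two ha).2 ha2.symm) h2 (by rw [hya]) h1
    exact n2 w hw
  have hg2 : orderOf g = 2 := by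
    apply orderOf_eq_prime (by rw [pow_two, hgg])
    rintro rfl
    rw [map_one] at hfg
    have h1 : z = 1 := S.subtype_injective (by rw [← hfg, map_one])
    rw [h1, orderOf_one] at hz
    exact absurd hz (by norm_num)
  have hyR : y ∈ normalizer (R : Set G) := (hYM hyY).2
  have hgR : g ∈ normalizer (R : Set G) := hgM.2
  have hdR : ∀ p : ℕ, p.Prime → p ∈ ({s, t} : Set ℕ) → p ∣ Nat.card K → p ∣ Nat.card R := fun p hp hpp hd =>
    Cfsg.Agent.OddOrderLocal.HallPi.prime_dvd_card hR hp hpp hd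
  have hfpf : ∀ v ∈ R, y * v = v * y → v = 1 := by
    intro v hv hc
    by_contra hv1
    obtain ⟨p, hp, hpd⟩ := Nat.exists_prime_and_dvd (fun h => hv1 (orderOf_eq_one_iff.1 h))
    have h1 : p ∣ Nat.card R := hpd.trans (Subgroup.orderOf_dvd_natCard R hv)
    have h2 : p = s ∨ p = t := hR.2.1 p hp h1
    rcases h2 with rfl | rfl
    · obtain ⟨w, hw⟩ := Cfsg.Agent.H813.NonCyc.exists_of_commute (s := p) (t := a)
        ((Nat.coprime_primes hp ha).2 has.symm) hpd (by rw [hya]) (show Commute v y from hc.symm)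
      exact ns w hw
    · obtain ⟨w, hw⟩ := Cfsg.Agent.H813.NonCyc.exists_of_commute (s := p) (t := a)
        ((Nat.coprime_primes hp ha).2 hat.symm) hpd (by rw [hya]) (show Commute v y from hc.symm)
      exact nt w hw
  have hRne : R ≠ ⊥ := by
    rintro rfl
    have h1 := hdR s hs (Or.inl rfl) hsK
    rw [Subgroup.card_bot, Nat.dvd_one] at h1
    exact hs.one_lt.ne' h1
  have hnil := nilpotent_of_fpf hRne ha hya hyR hfpf
  have hodd : Odd (orderOf y) := by
    rw [hya]
    exact ha.odd_of_ne_two ha2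
  obtain ⟨u, huR, hu, hgu⟩ := exists_fix_prime hnil hgg hodd hgy hyR hgR hfpf hs (hdR s hs (Or.inl rfl) hsK)
  obtain ⟨v, hvR, hv, hgv⟩ := exists_fix_prime hnil hgg hodd hgy hyR hgR hfpf ht (hdR t ht (Or.inr rfl) htK)
  have huv : Commute u v := Cfsg.Agent.OddOrderLocal.FittingHall.commute_of_mem_of_coprime_orderOf hnil huR hvR (by
    rw [hu, hv]
    exact (Nat.coprime_primes hs ht).2 hst)
  have h1 : orderOf (u * v) = s * t := by
    rw [huv.orderOf_mul_eq_mul_orderOf_of_coprime (by rw [hu, hv]; exact (Nat.coprime_primes hs ht).2 hst), hu, hv]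
  have h2 : Commute g (u * v) := (show Commute g u from hgu).mul_right hgv
  refine ⟨g * (u * v), ?_⟩
  rw [h2.orderOf_mul_eq_mul_orderOf_of_coprime (by
    rw [hg2, h1]
    exact Nat.Coprime.mul_right ((Nat.coprime_primes Nat.prime_two hs).2 hs2.symm)
      ((Nat.coprime_primes Nat.prime_two ht).2 ht2.symm)), hg2, h1]

end Cfsg.Agent.H361.Alt.Inv
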