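import Cfsg.Agent.H421.Act
import Cfsg.Agent.H357.Sp.Defs

/-!
# Modules for `G ⧸ K` inside a normal subgroup `K` (helper361, TEAM SPEC-ALT)

* `mod_of` : the module `K / K₁` and the elements of order `t o(x)` given by non-zero norms;
* `exists_mod` : `K` nilpotent, any prime `t ∣ |K|`.
-/

set_option autoImplicit false

namespace Cfsg.Agent.H361.Alt

open Cfsg.Agent.H357.Sp Cfsg.Agent.H421.Act

universe u

/-- powers of `v h`, `v` in an abelian normal subgroup -/
theorem mul_pow_eq {X : Type*} [Group X] (W : Subgroup X) (hW : W.Normal) (_hab : ∀ a ∈ W, ∀ b ∈ W, a * b = b * a)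
    (v h : X) (hv : v ∈ W) (n : ℕ) (c : ℕ → X) (h0 : c 0 = 1) (hc : ∀ i, c (i + 1) = c i * (h ^ i * v * (h ^ i)⁻¹)) :
    (v * h) ^ n = c n * h ^ n := by
  induction n with
  | zero => rw [pow_zero, pow_zero, h0, one_mul]
  | succ n ih =>
    rw [pow_succ, ih, hc]
    have : h ^ (n + 1) = h ^ n * h := pow_succ h n
    rw [this]
    group

theorem orderOf_eq_mul {X Y : Type*} [Group X] [Finite X] [Group Y] (f : X →* Y) {y : X} {n t : ℕ} (ht : t.Prime)
    (hn : orderOf (f y) = n) (h1 : y ^ n ≠ 1) (h2 : (y ^ n) ^ t = 1) : orderOf y = t * n := by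
  have hft : Fact t.Prime := ⟨ht⟩
  have hd : n ∣ orderOf y := hn ▸ orderOf_map_dvd f y
  have ho : orderOf (y ^ n) = t := orderOf_eq_prime h2 h1
  have hn0 : n ≠ 0 := by
    rintro rfl
    exact (orderOf_pos y).ne' (Nat.eq_zero_of_zero_dvd hd)
  rw [orderOf_pow_of_dvd hn0 hd] at ho
  rw [← ho, Nat.div_mul_cancel hd]

/-- **The module `K / K₁`.** -/
theorem mod_of {G : Type u} [Group G] [Finite G] {K K1 : Subgroup G} [K.Normal] [K1.Normal] {t : ℕ} (ht : t.Prime)
    (hlt : K1 < K) (hexp : ∀ x ∈ K, x ^ t ∈ K1) (hcomm : ∀ x ∈ K, ∀ y ∈ K, x * y * x⁻¹ * y⁻¹ ∈ K1) :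
    ∃ (V : Type u) (_ : AddCommGroup V) (_ : Nontrivial V) (_ : Finite V) (ρ : G ⧸ K →* AddMonoid.End V),
      (∀ v : V, t • v = 0) ∧ ∀ (x : G ⧸ K) (v : V), nrm ρ x v ≠ 0 → ∃ g : G, orderOf g = t * orderOf x := by
  classical
  let f := QuotientGroup.mk' K1
  let W : Subgroup (G ⧸ K1) := K.map f
  have hWn : W.Normal := Subgroup.Normal.map inferInstance f (QuotientGroup.mk'_surjective K1)
  have hab : ∀ a ∈ W, ∀ b ∈ W, a * b = b * a := by
    rintro _ ⟨x, hx, rfl⟩ _ ⟨y, hy, rfl⟩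
    have h1 : f (x * y * x⁻¹ * y⁻¹) = 1 := (QuotientGroup.eq_one_iff _).2 (hcomm x hx y hy)
    rw [map_mul, map_mul, map_mul, map_inv, map_inv, mul_inv_eq_one, mul_inv_eq_iff_eq_mul] at h1
    exact h1
  have hWexp' : ∀ w ∈ W, w ^ t = 1 := by
    rintro _ ⟨x, hx, rfl⟩
    rw [← map_pow]
    exact (QuotientGroup.eq_one_iff _).2 (hexp x hx)
  have hWexp : ∀ w : W, w ^ t = 1 := fun w => Subtype.ext (hWexp' w w.2)
  let _ : CommGroup W := { (inferInstance : Group W) with
    mul_comm := fun a b => Subtype.ext (hab a a.2 b b.2) }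
  have hWne : W ≠ ⊥ := by
    intro h
    rw [Subgroup.map_eq_bot_iff, QuotientGroup.ker_mk'] at h
    exact absurd h (not_le_of_gt hlt)
  have hWnt : Nontrivial W := (Subgroup.nontrivial_iff_ne_bot W).2 hWne
  let c : G →* MulAut W := (MulAut.conjNormal (H := W)).comp f
  have hc : ∀ (g : G) (w : W), ((c g w : W) : G ⧸ K1) = f g * w * (f g)⁻¹ := fun g w => MulAut.conjNormal_apply _ _
  have hker : ∀ k ∈ K, c k = 1 := by
    intro k hk
    apply MulEquiv.ext
    intro w
    apply Subtype.ext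
    rw [hc, hab (f k) ⟨k, hk, rfl⟩ w w.2, mul_inv_cancel_right]
    rfl
  let ρ : G ⧸ K →* AddMonoid.End (Additive W) := (toEnd W).comp (QuotientGroup.lift K c hker)
  refine ⟨Additive W, inferInstance, inferInstance, inferInstance, ρ, fun v => hWexp (Additive.toMul v), ?_⟩
  intro x v hv
  obtain ⟨g, rfl⟩ := QuotientGroup.mk'_surjective K x
  set n := orderOf (QuotientGroup.mk' K g) with hn
  -- an element `y` over `g` with `y ^ n ≠ 1`
  let φ : G ⧸ K1 →* G ⧸ K := QuotientGroup.map K1 K (MonoidHom.id G) hlt.le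
  have hφ : ∀ g : G, φ (f g) = QuotientGroup.mk' K g := fun _ => rfl
  have hφW : ∀ w ∈ W, φ w = 1 := by
    rintro _ ⟨k, hk, rfl⟩
    exact (QuotientGroup.eq_one_iff k).2 hk
  have hkerφ : ∀ y : G ⧸ K1, φ y = 1 → y ∈ W := by
    intro y hy
    obtain ⟨k, rfl⟩ := QuotientGroup.mk'_surjective K1 y
    exact ⟨k, (QuotientGroup.eq_one_iff k).1 hy, rfl⟩
  have hpowW : ∀ y : G ⧸ K1, φ y = QuotientGroup.mk' K g → y ^ n ∈ W := by
    intro y hy
    apply hkerφ
    rw [map_pow, hy, hn, pow_orderOf_eq_one]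
  obtain ⟨y, hyφ, hy1⟩ : ∃ y : G ⧸ K1, φ y = QuotientGroup.mk' K g ∧ y ^ n ≠ 1 := by
    by_cases h1 : f g ^ n = 1
    · let d : ℕ → G ⧸ K1 := fun i => ((Additive.toMul (∑ j ∈ Finset.range i, ρ ((QuotientGroup.mk' K g) ^ j) v) : W) :
        G ⧸ K1)
      have hd0 : d 0 = 1 := by
        change ((Additive.toMul (∑ j ∈ Finset.range 0, ρ ((QuotientGroup.mk' K g) ^ j) v) : W) : G ⧸ K1) = 1
        rw [Finset.sum_range_zero]; rfl
      have hd : ∀ i, d (i + 1) = d i * (f g ^ i * ((Additive.toMul v : W) : G ⧸ K1) * (f g ^ i)⁻¹) := by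
        intro i
        change ((Additive.toMul (∑ j ∈ Finset.range (i + 1), ρ ((QuotientGroup.mk' K g) ^ j) v) : W) : G ⧸ K1) = _
        rw [Finset.sum_range_succ]
        have e1 : ((Additive.toMul (ρ ((QuotientGroup.mk' K g) ^ i) v) : W) : G ⧸ K1) =
            f g ^ i * ((Additive.toMul v : W) : G ⧸ K1) * (f g ^ i)⁻¹ := by
          rw [← map_pow, ← map_pow, ← hc]
          rfl
        rw [← e1]
        rfl
      refine ⟨((Additive.toMul v : W) : G ⧸ K1) * f g, ?_, ?_⟩
      · rw [map_mul, hφW _ (Additive.toMul v : W).2, one_mul]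
        rfl
      · rw [mul_pow_eq W hWn hab _ (f g) (Additive.toMul v : W).2 n d hd0 hd, h1, mul_one]
        intro h2
        apply hv
        have h3 : (Additive.toMul (∑ j ∈ Finset.range n, ρ ((QuotientGroup.mk' K g) ^ j) v) : W) = 1 := Subtype.ext h2
        exact h3
    · exact ⟨f g, hφ g, h1⟩
  have h3 := orderOf_eq_mul φ (y := y) (n := n) ht (by rw [hyφ]) hy1 (hWexp' _ (hpowW y hyφ))
  obtain ⟨u, hu, -⟩ := orderOf_lift f (QuotientGroup.mk'_surjective K1) y
  exact ⟨u, hu.trans h3⟩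

/-- the top factor of a solvable normal subgroup, with the prime unspecified -/
theorem exists_top_mod {G : Type u} [Group G] [Finite G] (K : Subgroup G) [K.Normal] (hK : K ≠ ⊥)
    (hs : Group.IsSolvable K) :
    ∃ (t : ℕ) (V : Type u) (_ : AddCommGroup V) (_ : Nontrivial V) (_ : Finite V) (ρ : G ⧸ K →* AddMonoid.End V),
      t.Prime ∧ t ∣ Nat.card K ∧ (∀ v : V, t • v = 0) ∧
      ∀ (x : G ⧸ K) (v : V), nrm ρ x v ≠ 0 → ∃ g : G, orderOf g = t * orderOf x := by
  obtain ⟨K1, t, hn, hlt, ht, htK, hexp, hcomm⟩ := exists_max K hK hs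
  obtain ⟨V, i1, i2, i3, ρ, h1, h2⟩ := mod_of (K := K) (K1 := K1) ht hlt hexp hcomm
  exact ⟨t, V, i1, i2, i3, ρ, ht, htK, h1, h2⟩

/-- **A nilpotent normal subgroup, any prime divisor of its order.** -/
theorem exists_mod {G : Type u} [Group G] [Finite G] {K : Subgroup G} [K.Normal] (hK : Group.IsNilpotent ↥K) {t : ℕ}
    (ht : t.Prime) (htK : t ∣ Nat.card ↥K) :
    ∃ (V : Type u) (_ : AddCommGroup V) (_ : Nontrivial V) (_ : Finite V) (ρ : G ⧸ K →* AddMonoid.End V),
      (∀ v : V, t • v = 0) ∧ ∀ (x : G ⧸ K) (v : V), nrm ρ x v ≠ 0 → ∃ g : G, orderOf g = t * orderOf x := by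
  classical
  have hft : Fact t.Prime := ⟨ht⟩
  -- the subgroup generated by the elements of order prime to `t`
  let M : Subgroup G := Subgroup.closure {x | x ∈ K ∧ ¬ t ∣ orderOf x}
  have hMK : M ≤ K := by
    rw [Subgroup.closure_le]
    exact fun x hx => hx.1
  have hMn : M.Normal := by
    refine ⟨fun x hx g => ?_⟩
    refine Subgroup.closure_induction (p := fun x _ => g * x * g⁻¹ ∈ M) ?_ ?_ ?_ ?_ hx
    · intro y hy
      refine Subgroup.subset_closure ⟨‹K.Normal›.conj_mem y hy.1 g, ?_⟩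
      have : orderOf (g * y * g⁻¹) = orderOf y := by
        have := orderOf_injective (MulAut.conj g).toMonoidHom (MulAut.conj g).injective y
        exact this
      rw [this]
      exact hy.2
    · rw [mul_one, mul_inv_cancel]; exact M.one_mem
    · intro a b _ _ ha hb
      have : g * (a * b) * g⁻¹ = g * a * g⁻¹ * (g * b * g⁻¹) := by group
      rw [this]
      exact M.mul_mem ha hb
    · intro a _ ha
      have : g * a⁻¹ * g⁻¹ = (g * a * g⁻¹)⁻¹ := by group
      rw [this]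
      exact M.inv_mem ha
  -- `M < K`
  have hMlt : M ≠ K := by
    intro hMeq
    obtain ⟨P⟩ : Nonempty (Sylow t K) := inferInstance
    have htm : t ∈ (Nat.card K).primeFactors := Nat.mem_primeFactors.2 ⟨ht, htK, Nat.card_pos.ne'⟩
    obtain ⟨e⟩ := (isNilpotent_of_finite_tfae (G := K)).out 0 4 |>.1 hK
    let π : K →* (∀ P : Sylow t K, P) := (Pi.evalMonoidHom _ (⟨t, htm⟩ : (Nat.card K).primeFactors)).comp e.symm.toMonoidHom
    let ψ : K →* P := (Pi.evalMonoidHom _ P).comp π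
    have hψ : Function.Surjective ψ := by
      intro p
      refine ⟨e (fun q => if hq : q = ⟨t, htm⟩ then by
        subst hq
        exact fun Q => if hQ : Q = P then by subst hQ; exact p else 1
        else 1), ?_⟩
      change (e.symm (e _)) ⟨t, htm⟩ P = p
      rw [MulEquiv.symm_apply_apply]
      simp
    have hk : ∀ x : K, (x : G) ∈ M → ψ x = 1 := by
      intro x hx
      have h1 : M ≤ ψ.ker.map K.subtype := by
        rw [Subgroup.closure_le]
        rintro y ⟨hyK, hyt⟩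
        refine ⟨⟨y, hyK⟩, ?_, rfl⟩
        rw [SetLike.mem_coe, MonoidHom.mem_ker]
        have h2 : orderOf (ψ ⟨y, hyK⟩) ∣ orderOf y := by
          have h3 := orderOf_map_dvd ψ ⟨y, hyK⟩
          rwa [Subgroup.orderOf_mk y hyK] at h3
        obtain ⟨k, hk⟩ := (IsPGroup.iff_orderOf.1 P.isPGroup') (ψ ⟨y, hyK⟩)
        rw [hk] at h2
        rcases Nat.eq_zero_or_pos k with rfl | hk0
        · rw [pow_zero] at hk
          exact orderOf_eq_one_iff.1 hk
        · exact absurd ((dvd_pow_self t hk0.ne').trans h2) hyt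
      obtain ⟨z, hz, hzx⟩ := h1 hx
      have : z = x := Subtype.ext hzx
      rw [← this]
      exact MonoidHom.mem_ker.1 hz
    have h1 : Nat.card P = 1 := by
      rw [Nat.card_eq_one_iff_unique]
      refine ⟨⟨fun a b => ?_⟩, ⟨1⟩⟩
      obtain ⟨a', rfl⟩ := hψ a
      obtain ⟨b', rfl⟩ := hψ b
      rw [hk a' (by rw [hMeq]; exact a'.2), hk b' (by rw [hMeq]; exact b'.2)]
    rw [P.card_eq_multiplicity] at h1
    have h2 : 0 < (Nat.card K).factorization t := ht.factorization_pos_of_dvd Nat.card_pos.ne' htK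
    have h3 := Nat.one_lt_pow h2.ne' ht.one_lt
    omega
  -- the top factor of `K / M`
  have hKMne : K.map (QuotientGroup.mk' M) ≠ ⊥ := by
    intro h
    rw [Subgroup.map_eq_bot_iff, QuotientGroup.ker_mk'] at h
    exact hMlt (le_antisymm hMK h)
  have hKMn : (K.map (QuotientGroup.mk' M)).Normal :=
    Subgroup.Normal.map inferInstance _ (QuotientGroup.mk'_surjective M)
  have hKsol : Group.IsSolvable K := inferInstance
  have hKMs : Group.IsSolvable (K.map (QuotientGroup.mk' M)) :=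
    Group.isSolvable_of_surjective ((QuotientGroup.mk' M).subgroupMap_surjective K)
  obtain ⟨K2, t', hn, hlt, ht', htK', hexp, hcomm⟩ := exists_max (K.map (QuotientGroup.mk' M)) hKMne hKMs
  have htt : t' = t := by
    -- an element of order `t'` of `K / M` comes from a `t'`-element of `K`
    by_contra hne
    have hft' : Fact t'.Prime := ⟨ht'⟩
    obtain ⟨y, hy⟩ := exists_prime_orderOf_dvd_card' t' htK'
    obtain ⟨x, hx, hxy⟩ := y.2
    have h1 : orderOf ((QuotientGroup.mk' M) x) = t' := by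
      rw [hxy, Subgroup.orderOf_coe, hy]
    obtain ⟨a, m, hm, hom⟩ := Nat.exists_eq_pow_mul_and_not_dvd (orderOf_pos x).ne' t ht.ne_one
    have h2 : orderOf (x ^ t ^ a) = m := by
      rw [orderOf_pow_of_dvd (pow_ne_zero _ ht.ne_zero) ⟨m, hom⟩, hom, Nat.mul_div_cancel_left _ (pow_pos ht.pos a)]
    have h3 : x ^ t ^ a ∈ M := Subgroup.subset_closure ⟨K.pow_mem hx _, by rw [h2]; exact hm⟩
    have h4 : (QuotientGroup.mk' M) x ^ t ^ a = 1 := by
      rw [← map_pow]
      exact (QuotientGroup.eq_one_iff _).2 h3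
    have h5 := orderOf_dvd_of_pow_eq_one h4
    rw [h1] at h5
    exact hne ((Nat.prime_dvd_prime_iff_eq ht' ht).1 (ht'.dvd_of_dvd_pow h5))
  subst htt
  have hK1n : (K2.comap (QuotientGroup.mk' M)).Normal := hn.comap _
  have hMK2 : M ≤ K2.comap (QuotientGroup.mk' M) := by
    intro x hx
    rw [Subgroup.mem_comap, show (QuotientGroup.mk' M) x = 1 from (QuotientGroup.eq_one_iff _).2 hx]
    exact K2.one_mem
  have hback : ∀ x : G, (QuotientGroup.mk' M) x ∈ K.map (QuotientGroup.mk' M) → x ∈ K := by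
    rintro x ⟨k, hk, hkx⟩
    have h1 : k⁻¹ * x ∈ M := QuotientGroup.eq.1 hkx
    have h2 := K.mul_mem hk (hMK h1)
    rwa [mul_inv_cancel_left] at h2
  have hK1lt : K2.comap (QuotientGroup.mk' M) < K := by
    refine lt_of_le_of_ne (fun x hx => hback x (hlt.le hx)) ?_
    intro h
    apply hlt.ne
    apply le_antisymm hlt.le
    rintro _ ⟨k, hk, rfl⟩
    have hk' : k ∈ K2.comap (QuotientGroup.mk' M) := by rw [h]; exact hk
    exact hk'
  exact mod_of (K := K) (K1 := K2.comap (QuotientGroup.mk' M)) ht hK1lt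
    (fun x hx => by
      rw [Subgroup.mem_comap, map_pow]
      exact hexp _ ⟨x, hx, rfl⟩)
    (fun x hx y hy => by
      rw [Subgroup.mem_comap, map_mul, map_mul, map_mul, map_inv, map_inv]
      exact hcomm _ ⟨x, hx, rfl⟩ _ ⟨y, hy, rfl⟩)

end Cfsg.Agent.H361.Alt
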